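import Mathlib
import Groth.Agent.Lib.Helper88.PInsep.FibreBot
import Groth.Agent.Lib.Helper88.PInsep.Final
import Groth.Agent.Lib.Helper88.OmegaHat.FieldRank

/-!
# A generically unramified Noether normalisation after a finite purely inseparable base change
(helper88)
-/

set_option autoImplicit false
set_option linter.unusedSectionVars false
set_option linter.style.haveILetI false

universe u

namespace Groth.Agent.Lib.Helper88.PInsep

open TensorProduct IsLocalRing Groth.Agent.Lib.Helper88.OmegaHat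

section G1

variable (k A L k' : Type u) [Field k] [CommRing A] [Algebra k A] [Field L] [Algebra k L]
  [Algebra A L] [IsScalarTower k A L] [Field k'] [Algebra k k']

/-- the reduction of `k' ⊗ A` embeds into the reduction of `k' ⊗ L`, so inherits geometric
reducedness -/
theorem isGeometricallyReduced_red (hinj : Function.Injective (algebraMap A L))
    [Algebra.IsGeometricallyReduced k' ((k' ⊗[k] L) ⧸ nilradical (k' ⊗[k] L))] :
    Algebra.IsGeometricallyReduced k' ((k' ⊗[k] A) ⧸ nilradical (k' ⊗[k] A)) := by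
  let g : k' ⊗[k] A →ₐ[k'] k' ⊗[k] L :=
    Algebra.TensorProduct.map (AlgHom.id k' k') (IsScalarTower.toAlgHom k A L)
  have hg : Function.Injective g :=
    Module.Flat.lTensor_preserves_injective_linearMap (M := k')
      (IsScalarTower.toAlgHom k A L).toLinearMap hinj
  have hnil : ∀ a ∈ nilradical (k' ⊗[k] A),
      ((Ideal.Quotient.mkₐ k' (nilradical (k' ⊗[k] L))).comp g) a = 0 := by
    intro a ha
    change Ideal.Quotient.mk _ (g a) = 0
    rw [Ideal.Quotient.eq_zero_iff_mem, mem_nilradical]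
    exact (mem_nilradical.mp ha).map g
  let f : ((k' ⊗[k] A) ⧸ nilradical (k' ⊗[k] A)) →ₐ[k']
      ((k' ⊗[k] L) ⧸ nilradical (k' ⊗[k] L)) :=
    Ideal.Quotient.liftₐ _ ((Ideal.Quotient.mkₐ k' (nilradical (k' ⊗[k] L))).comp g) hnil
  have hf : Function.Injective f := by
    rw [injective_iff_map_eq_zero]
    intro x hx
    obtain ⟨a, rfl⟩ := Ideal.Quotient.mk_surjective x
    have h1 : Ideal.Quotient.mk (nilradical (k' ⊗[k] L)) (g a) = 0 := hx
    rw [Ideal.Quotient.eq_zero_iff_mem, mem_nilradical] at h1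
    obtain ⟨N, hN⟩ := h1
    rw [← map_pow, map_eq_zero_iff _ hg] at hN
    rw [Ideal.Quotient.eq_zero_iff_mem, mem_nilradical]
    exact ⟨N, hN⟩
  exact Algebra.IsGeometricallyReduced.of_injective f hf

end G1

section Main

variable (k A : Type u) [Field k] [CommRing A] [IsDomain A] [IsNoetherianRing A] [IsLocalRing A]
  [Algebra k A] [IsAdicComplete (maximalIdeal A) A] [Module.Finite k (ResidueField A)]

/-- `A'` is not a field when `A` is not -/
theorem not_isField_of_dim {B : Type u} [CommRing B] (h : ringKrullDim B = ringKrullDim A)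
    (hA : ¬ IsField A) : ¬ IsField B := by
  intro hB
  have h1 := ringKrullDim_eq_zero_of_isField hB
  rw [h] at h1
  have h2 : Ring.KrullDimLE 0 A := (Ring.krullDimLE_iff).mpr (by rw [h1]; rfl)
  exact hA Ring.KrullDimLE.isField_of_isDomain

theorem main_charZero [CharZero k] (hA : ¬ IsField A) (n : ℕ) (hn : ringKrullDim A = n) :
    ∃ (k' : Type u) (_ : Field k') (_ : Algebra k k'), Module.Finite k k' ∧
      IsPurelyInseparable k k' ∧
      ∃ (_ : IsDomain ((k' ⊗[k] A) ⧸ nilradical (k' ⊗[k] A)))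
        (_ : IsLocalRing ((k' ⊗[k] A) ⧸ nilradical (k' ⊗[k] A)))
        (_ : Algebra (MvPowerSeries (Fin n) k') ((k' ⊗[k] A) ⧸ nilradical (k' ⊗[k] A)))
        (_ : IsScalarTower k' (MvPowerSeries (Fin n) k') ((k' ⊗[k] A) ⧸ nilradical (k' ⊗[k] A))),
        IsLocalHom (algebraMap (MvPowerSeries (Fin n) k') ((k' ⊗[k] A) ⧸ nilradical (k' ⊗[k] A))) ∧
        Function.Injective (algebraMap (MvPowerSeries (Fin n) k')
          ((k' ⊗[k] A) ⧸ nilradical (k' ⊗[k] A))) ∧
        Module.Finite (MvPowerSeries (Fin n) k') ((k' ⊗[k] A) ⧸ nilradical (k' ⊗[k] A)) ∧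
        Algebra.IsUnramifiedAt (MvPowerSeries (Fin n) k')
          (⊥ : Ideal ((k' ⊗[k] A) ⧸ nilradical (k' ⊗[k] A))) := by
  refine ⟨k, inferInstance, inferInstance, inferInstance, inferInstance, ?_⟩
  obtain ⟨hdom, hloc, hNoe, hcompl, hres, hdim⟩ := red_structure k A k
  rw [hn] at hdim
  have hnf := not_isField_of_dim A (hdim.trans hn.symm) hA
  obtain ⟨a1, t1, h1, h2, h3, h4⟩ := exists_powerSeries_of_fibre_rank k
    ((k ⊗[k] A) ⧸ nilradical (k ⊗[k] A)) n hdim hnf
    (finrank_fibre_bot_le_of_charZero k _ n hdim)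
  exact ⟨hdom, hloc, a1, t1, h1, h2, h3, h4⟩

theorem main_charP (p : ℕ) [Fact p.Prime] [CharP k p] (hk : (frobenius k p).Finite)
    (hA : ¬ IsField A) (n : ℕ) (hn : ringKrullDim A = n) :
    ∃ (k' : Type u) (_ : Field k') (_ : Algebra k k'), Module.Finite k k' ∧
      IsPurelyInseparable k k' ∧
      ∃ (_ : IsDomain ((k' ⊗[k] A) ⧸ nilradical (k' ⊗[k] A)))
        (_ : IsLocalRing ((k' ⊗[k] A) ⧸ nilradical (k' ⊗[k] A)))
        (_ : Algebra (MvPowerSeries (Fin n) k') ((k' ⊗[k] A) ⧸ nilradical (k' ⊗[k] A)))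
        (_ : IsScalarTower k' (MvPowerSeries (Fin n) k') ((k' ⊗[k] A) ⧸ nilradical (k' ⊗[k] A))),
        IsLocalHom (algebraMap (MvPowerSeries (Fin n) k') ((k' ⊗[k] A) ⧸ nilradical (k' ⊗[k] A))) ∧
        Function.Injective (algebraMap (MvPowerSeries (Fin n) k')
          ((k' ⊗[k] A) ⧸ nilradical (k' ⊗[k] A))) ∧
        Module.Finite (MvPowerSeries (Fin n) k') ((k' ⊗[k] A) ⧸ nilradical (k' ⊗[k] A)) ∧
        Algebra.IsUnramifiedAt (MvPowerSeries (Fin n) k')
          (⊥ : Ideal ((k' ⊗[k] A) ⧸ nilradical (k' ⊗[k] A))) := by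
  classical
  haveI : ExpChar k p := ExpChar.prime (Fact.out : p.Prime)
  haveI : ExpChar (AlgebraicClosure k) p :=
    expChar_of_injective_algebraMap (algebraMap k (AlgebraicClosure k)).injective p
  -- the fraction field and the Noether normalisation
  obtain ⟨a1, a2, a3, t1, t2, t3, t4, hfin, hinj, hfinL⟩ :=
    exists_normalisation k A (FractionRing A) n hn
  have t5 : IsScalarTower k (FractionRing (MvPowerSeries (Fin n) k)) (FractionRing A) := by
    refine IsScalarTower.of_algebraMap_eq fun c => ?_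
    rw [IsScalarTower.algebraMap_apply k (MvPowerSeries (Fin n) k)
        (FractionRing (MvPowerSeries (Fin n) k)),
      ← IsScalarTower.algebraMap_apply (MvPowerSeries (Fin n) k)
        (FractionRing (MvPowerSeries (Fin n) k)) (FractionRing A),
      ← IsScalarTower.algebraMap_apply k (MvPowerSeries (Fin n) k) (FractionRing A)]
  have hArt : IsArtinianRing (FractionRing A ⊗[k] perfectClosure k (AlgebraicClosure k)) :=
    isArtinianRing_tensor_perfectClosure p k n (FractionRing A)
      (perfectClosure k (AlgebraicClosure k))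
  obtain ⟨k', fk', ak', hfink', hpik', hgr⟩ :=
    (Groth.Agent.S5061.result p k (FractionRing A) (perfectClosure k (AlgebraicClosure k))).mp hArt
  refine ⟨k', fk', ak', hfink', hpik', ?_⟩
  obtain ⟨hdom, hloc, hNoe, hcompl, hres, hdim⟩ := red_structure k A k'
  rw [hn] at hdim
  have hnf := not_isField_of_dim A (hdim.trans hn.symm) hA
  haveI : CharP k' p := charP_of_injective_algebraMap (algebraMap k k').injective p
  haveI : ExpChar k' p := ExpChar.prime (Fact.out : p.Prime)
  have hk' : (frobenius k' p).Finite := frobenius_finite_of_finite p k k' hk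
  have hgr' : Algebra.IsGeometricallyReduced k' ((k' ⊗[k] A) ⧸ nilradical (k' ⊗[k] A)) :=
    isGeometricallyReduced_red k A (FractionRing A) k' (IsFractionRing.injective A (FractionRing A))
  obtain ⟨b1, s1, h1, h2, h3, h4⟩ := exists_powerSeries_of_fibre_rank k'
    ((k' ⊗[k] A) ⧸ nilradical (k' ⊗[k] A)) n hdim hnf
    (finrank_fibre_bot_le_of_charP p k' _ hk' n hdim)
  exact ⟨hdom, hloc, b1, s1, h1, h2, h3, h4⟩

end Main

end Groth.Agent.Lib.Helper88.PInsep
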